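import Cfsg.Agent.Nodes.Sub
import Cfsg.Agent.KFacts.TwESix.Comb

/-!
# The subsystem `B₄` of the relative root system `F₄` of `²E₆(q)` (S5741, TEAM EXCSUB, helper958)

Base `(-ρ, α₀, α₁, α₂)`; a root `z` of `F₄` lies in it iff `z 3` is even.
-/

set_option autoImplicit false
set_option linter.unusedSectionVars false

namespace Cfsg.Agent.H958.TS.BFour

open CoxeterSystem Cfsg.Agent.ChevalleyStructure.CoxeterGeom Cfsg.Agent.Tits.Roots Cfsg.Agent.Tits.Core
  Cfsg.Agent.Nodes.Reps Cfsg.Agent.Nodes.BNOf Cfsg.Agent.Nodes.RGDTwE6 Cfsg.Agent.Nodes.SubComb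
  Cfsg.Agent.KFacts.TwESix.Comb

set_option backward.isDefEq.respectTransparency false in
/-- the Coxeter matrix of type `B₄` -/
def MB : CoxeterMatrix (Fin 4) where
  M := !![1, 3, 2, 2;
          3, 1, 3, 2;
          2, 3, 1, 4;
          2, 2, 4, 1]

/-- the Cartan matrix of type `B₄`, node `3` short -/
def A4 : Fin 4 → Fin 4 → ℤ := ![![2, -1, 0, 0], ![-1, 2, -1, 0], ![0, -1, 2, -1], ![0, 0, -2, 2]]

set_option backward.isDefEq.respectTransparency false in
theorem isCartan4 : IsCartan MB A4 := by constructor <;> decide +kernel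

/-- the base -/
def β : Fin 4 → Fin 4 → ℤ := ![-rho, sr 0, sr 1, sr 2]

theorem iota_eq (c : Fin 4 → ℤ) :
    iota β c = ![c 1 - 2 * c 0, c 2 - 3 * c 0, c 3 - 4 * c 0, -2 * c 0] := by
  rw [iota_apply, Fin.sum_univ_four]
  have h0 : β 0 = ![-2, -3, -4, -2] := by decide
  have h1 : β 1 = ![1, 0, 0, 0] := by decide
  have h2 : β 2 = ![0, 1, 0, 0] := by decide
  have h3 : β 3 = ![0, 0, 1, 0] := by decide
  rw [h0, h1, h2, h3]
  funext k
  fin_cases k <;> simp <;> ring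

/-- the coordinates -/
def κ (z : Fin 4 → ℤ) : Fin 4 → ℤ := ![-(z 3 / 2), z 0 - z 3, z 1 - 3 * (z 3 / 2), z 2 - 2 * z 3]

theorem κ_iota (c : Fin 4 → ℤ) : κ (iota β c) = c := by
  rw [iota_eq]
  funext k
  fin_cases k
  · simp [κ]; omega
  · simp [κ]
  · simp [κ]; omega
  · simp [κ]; ring

theorem iota_κ {z : Fin 4 → ℤ} (hz : z 3 % 2 = 0) : iota β (κ z) = z := by
  rw [iota_eq]
  funext k
  fin_cases k
  · simp [κ]; omega
  · simp [κ]
  · simp [κ]; omega
  · simp [κ]; omega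

theorem even_iota (c : Fin 4 → ℤ) : iota β c 3 % 2 = 0 := by
  rw [iota_eq]
  simp

variable {W : Type*} [Group W] (cs : CoxeterSystem CoxeterMatrix.F₄ W)

theorem sign_rts : ∀ z ∈ rts, z 3 % 2 = 0 → (∀ i, 0 ≤ κ z i) ∨ (∀ i, κ z i ≤ 0) := by decide +kernel

theorem hbase (c : Fin 4 → ℤ) (hc : IsRoot cs isCartan (iota β c)) : 0 ≤ c ∨ c ≤ 0 := by
  have h1 := sign_rts _ ((mem_rts cs).1 hc) (even_iota c)
  rw [κ_iota] at h1
  exact h1

/-- the reflections -/
def ii : Fin 4 → Fin 4 := ![0, 0, 1, 2]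

theorem exists_subSys : ∃ w : Fin 4 → W, SubSys cs isCartan A4 β w ii := by
  obtain ⟨v, hv⟩ := exists_rep_long cs (x := -rho) (rho_root cs).neg
    (by rw [bf_neg_left, bf_neg_right, neg_neg]; exact rho_long)
  refine ⟨![v, 1, 1, 1], fun j => ?_, fun j k => ?_, fun c hc => ?_⟩
  · fin_cases j
    · exact hv.symm
    · show sr 0 = rep cs isCartan 1 (sr 0)
      rw [map_one, Module.End.one_apply]
    · show sr 1 = rep cs isCartan 1 (sr 1)
      rw [map_one, Module.End.one_apply]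
    · show sr 2 = rep cs isCartan 1 (sr 2)
      rw [map_one, Module.End.one_apply]
  · have h0 : ∀ k, pairing A 0 (rep cs isCartan v⁻¹ (β k)) = A4 0 k := by
      intro k
      have h1 := two_bf_sr (rep cs isCartan v⁻¹ (β k)) 0
      rw [sr_norm.1, bf_comm, ← bf_rep_left, hv] at h1
      have h2 : ∀ k : Fin 4, 2 * bf (-rho) (β k) = A4 0 k * 4 := by decide +kernel
      rw [h2 k] at h1
      omega
    have h1 : ∀ j : Fin 4, j ≠ 0 → ∀ k, pairing A (ii j) (β k) = A4 j k := by decide +kernel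
    rcases eq_or_ne j 0 with rfl | hj
    · exact h0 k
    · have h2 : (![v, 1, 1, 1] : Fin 4 → W) j = 1 := by
        fin_cases j
        · exact absurd rfl hj
        · rfl
        · rfl
        · rfl
      rw [h2, inv_one, map_one, Module.End.one_apply]
      exact h1 j hj k
  · rw [← κ_iota c, hc]
    funext k
    fin_cases k <;> simp [κ]

/-! ### The roots -/

/-- the positive roots of `B₄` -/
def pos : Finset (Fin 4 → ℤ) :=
  ((rts.filter fun z => decide (z 3 % 2 = 0 ∧ ∀ i, 0 ≤ κ z i)).map κ).toFinset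

variable {W' : Type*} [Group W'] (cs' : CoxeterSystem MB W')

theorem isRoot_iff (cs : CoxeterSystem CoxeterMatrix.F₄ W) (c : Fin 4 → ℤ) :
    IsRoot cs' isCartan4 c ↔ iota β c ∈ rts := by
  obtain ⟨w, S⟩ := exists_subSys cs
  have : Finite W := finiteW cs
  rw [← mem_rts cs]
  exact ⟨fun h => S.isRoot_iota h, fun h => S.isRoot_of_iota cs' isCartan4 (hbase cs) h⟩

theorem coe_pos : (pos : Set (Fin 4 → ℤ)) = RGD.Pos cs' isCartan4 := by
  ext c
  have h1 := isRoot_iff cs' (CoxeterMatrix.F₄.toCoxeterSystem) c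
  rw [Finset.mem_coe, pos, List.mem_toFinset, List.mem_map]
  constructor
  · rintro ⟨z, hz, rfl⟩
    rw [List.mem_filter, decide_eq_true_eq] at hz
    obtain ⟨hz, he, hp⟩ := hz
    refine ⟨(isRoot_iff cs' (CoxeterMatrix.F₄.toCoxeterSystem) _).2 ?_, hp⟩
    rw [iota_κ he]; exact hz
  · rintro ⟨hc, hp⟩
    refine ⟨iota β c, List.mem_filter.2 ⟨h1.1 hc, ?_⟩, κ_iota c⟩
    rw [decide_eq_true_eq, κ_iota]
    exact ⟨even_iota c, hp⟩

theorem prod_pos : ∏ c ∈ pos, (if bf (iota β c) (iota β c) = 4 then 2 else 4) = 2 ^ 20 := by decide +kernel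

/-- a long root of `B₄` is a sum of two long roots at `120` degrees -/
theorem long_sum : ∀ z ∈ rts, z 3 % 2 = 0 → bf z z = 4 → ∃ x ∈ rts, ∃ y ∈ rts, x 3 % 2 = 0 ∧ y 3 % 2 = 0 ∧
    bf x x = 4 ∧ bf y y = 4 ∧ bf x y = -2 ∧ x + y = z := by decide +kernel

/-- a short root of `B₄` is a sum of a long and a short root -/
theorem short_sum : ∀ z ∈ rts, z 3 % 2 = 0 → bf z z = 2 → ∃ x ∈ rts, ∃ y ∈ rts, x 3 % 2 = 0 ∧ y 3 % 2 = 0 ∧
    bf x x = 4 ∧ bf y y = 2 ∧ x + y = z := by decide +kernel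

set_option backward.isDefEq.respectTransparency false in
theorem conn_bool : ∀ f : Fin 4 → Bool, (∃ a, f a = true) → (∃ a, f a = false) →
      ∃ a, f a = true ∧ ∃ b, f b = false ∧ MB.M a b ≠ 2 := by decide +kernel

theorem conn : ∀ J : Set (Fin 4), J.Nonempty → J ≠ Set.univ →
    ∃ a ∈ J, ∃ b, b ∉ J ∧ MB a b ≠ 2 := by
  classical
  intro J hJ hJ'
  by_contra hcon
  push Not at hcon
  obtain ⟨a, ha⟩ := hJ
  obtain ⟨b, hb⟩ := (Set.ne_univ_iff_exists_notMem J).1 hJ'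
  obtain ⟨x, hx, y, hy, hxy⟩ := conn_bool (fun a => decide (a ∈ J)) ⟨a, by simpa using ha⟩ ⟨b, by simpa using hb⟩
  exact hxy (hcon x (by simpa using hx) y (by simpa using hy))

end Cfsg.Agent.H958.TS.BFour
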