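import Cfsg.Agent.OrdDiv.Main
import Cfsg.Prelude.Def_LieTypeChar
import Cfsg.Agent.S1059
import Cfsg.Agent.S1062
import Cfsg.Agent.S1063
import Cfsg.Agent.S1064
import Cfsg.Agent.S1065
import Cfsg.Agent.S1066
import Cfsg.Agent.S1067
import Cfsg.Agent.S1068
import Cfsg.Agent.S1069
import Cfsg.Agent.S1163

/-!
# The divisibility order engine for groups of Lie type (S5741, TEAM EXCSUB, helper958)

`exists_good_char` : `OrdDiv.exists_good` for `IsLieTypeChar p S`, without the sporadic groups.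
-/

set_option autoImplicit false

namespace Cfsg.Agent.H958.TS

open Cfsg Cfsg.Agent.OrdDiv

universe u

/-- **The engine for groups of Lie type.** -/
theorem exists_good_char {p : ℕ} {S : Type u} [Group S] (h : IsLieTypeChar p S)
    {l : List (ℕ × ℕ)} {N : ℕ} (hv : valid l N = true) (hd : Nat.card S ∣ N) : Good l N S := by
  rcases h with h | h | h | h | h | h | h | h | h | h | h
  · obtain ⟨F, _, _, _, n, hn, hn2, ⟨e⟩⟩ := h
    rw [Nat.card_congr e.toEquiv] at hd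
    obtain ⟨h1, h2⟩ := psl_mem hv hn hn2 hd
    exact ⟨.psl n (Fintype.card F), mem_cands 1 (List.mem_map.2 ⟨_, h1, rfl⟩),
      ⟨F, inferInstance, inferInstance, rfl, ⟨e⟩⟩, (Nat.card_congr e.toEquiv).trans h2⟩
  · obtain ⟨F, _, _, _, n, hn, hn2, ⟨e⟩⟩ := h
    rw [Nat.card_congr e.toEquiv] at hd
    obtain ⟨h1, h2⟩ := psp_mem hv hn hn2 hd
    exact ⟨.psp n (Fintype.card F), mem_cands 2 (List.mem_map.2 ⟨_, h1, rfl⟩),
      ⟨F, inferInstance, inferInstance, rfl, ⟨e⟩⟩, (Nat.card_congr e.toEquiv).trans h2⟩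
  · obtain ⟨F, _, _, _, n, q, hF, hn, hn2, ⟨e⟩⟩ := h
    rw [Nat.card_congr e.toEquiv] at hd
    obtain ⟨h1, h2⟩ := psu_mem hv hF hn hn2 hd
    exact ⟨.psu n q, mem_cands 3 (List.mem_map.2 ⟨_, h1, rfl⟩),
      ⟨F, inferInstance, inferInstance, hF, ⟨e⟩⟩, (Nat.card_congr e.toEquiv).trans h2⟩
  · obtain ⟨F, _, _, _, n, hn, ho, ⟨e⟩⟩ := h
    rw [Nat.card_congr e.toEquiv] at hd
    obtain ⟨h1, h2⟩ := oodd_mem hv hn ho hd
    exact ⟨.oodd n (Fintype.card F), mem_cands 4 (List.mem_map.2 ⟨_, h1, rfl⟩),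
      ⟨F, inferInstance, inferInstance, rfl, ⟨e⟩⟩, (Nat.card_congr e.toEquiv).trans h2⟩
  · obtain ⟨F, _, _, _, n, hn, ⟨e⟩⟩ := h
    rw [Nat.card_congr e.toEquiv] at hd
    obtain ⟨h1, h2⟩ := oplus_mem hv hn hd
    exact ⟨.oplus n (Fintype.card F), mem_cands 5 (List.mem_map.2 ⟨_, h1, rfl⟩),
      ⟨F, inferInstance, inferInstance, rfl, ⟨e⟩⟩, (Nat.card_congr e.toEquiv).trans h2⟩
  · obtain ⟨F, _, _, _, n, a, b, hn, hab, ⟨e⟩⟩ := h
    rw [Nat.card_congr e.toEquiv] at hd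
    obtain ⟨h1, h2⟩ := ominus_mem hv hn hab hd
    exact ⟨.ominus n (Fintype.card F), mem_cands 6 (List.mem_map.2 ⟨_, h1, rfl⟩),
      ⟨F, inferInstance, inferInstance, a, b, rfl, hab, ⟨e⟩⟩, (Nat.card_congr e.toEquiv).trans h2⟩
  · obtain ⟨F, _, _, _, h⟩ := h
    rcases h with ⟨hq, ⟨e⟩⟩ | ⟨⟨e⟩⟩ | ⟨⟨e⟩⟩ | ⟨⟨e⟩⟩ | ⟨⟨e⟩⟩
    · rw [Nat.card_congr e.toEquiv] at hd
      obtain ⟨h1, h2⟩ : (0, Fintype.card F) ∈ cand l N fG2 ∧ _ :=
        one_mem hv (by norm_num) Fintype.isPrimePow_card_of_field (by rw [Nat.ble_eq]; exact hq)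
          (by rw [S1059.result (F := F) rfl]; ring) (Nat.coprime_one_left _) hd
      exact ⟨.g2 (Fintype.card F), mem_cands 7 (List.mem_map.2 ⟨_, h1, rfl⟩),
        ⟨F, inferInstance, inferInstance, rfl, ⟨e⟩⟩, (Nat.card_congr e.toEquiv).trans h2⟩
    · rw [Nat.card_congr e.toEquiv] at hd
      obtain ⟨h1, h2⟩ : (0, Fintype.card F) ∈ cand l N fF4 ∧ _ :=
        one_mem hv (by norm_num) Fintype.isPrimePow_card_of_field rfl
          (by rw [S1062.result (F := F) rfl]; ring) (Nat.coprime_one_left _) hd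
      exact ⟨.f4 (Fintype.card F), mem_cands 8 (List.mem_map.2 ⟨_, h1, rfl⟩),
        ⟨F, inferInstance, inferInstance, rfl, ⟨e⟩⟩, (Nat.card_congr e.toEquiv).trans h2⟩
    · rw [Nat.card_congr e.toEquiv] at hd
      have h0 := cop_sub (q := Fintype.card F) (k := 1) Fintype.card_pos le_rfl
      rw [pow_one] at h0
      obtain ⟨h1, h2⟩ : (0, Fintype.card F) ∈ cand l N fE6 ∧ _ :=
        one_mem hv (by norm_num) Fintype.isPrimePow_card_of_field rfl
          (by rw [S1063.result (F := F) rfl]; ring) (Nat.Coprime.coprime_dvd_left (Nat.gcd_dvd_right _ _) h0) hd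
      exact ⟨.e6 (Fintype.card F), mem_cands 9 (List.mem_map.2 ⟨_, h1, rfl⟩),
        ⟨F, inferInstance, inferInstance, rfl, ⟨e⟩⟩, (Nat.card_congr e.toEquiv).trans h2⟩
    · rw [Nat.card_congr e.toEquiv] at hd
      have h0 := cop_sub (q := Fintype.card F) (k := 1) Fintype.card_pos le_rfl
      rw [pow_one] at h0
      obtain ⟨h1, h2⟩ : (0, Fintype.card F) ∈ cand l N fE7 ∧ _ :=
        one_mem hv (by norm_num) Fintype.isPrimePow_card_of_field rfl
          (by rw [S1064.result (F := F) rfl]; ring) (Nat.Coprime.coprime_dvd_left (Nat.gcd_dvd_right _ _) h0) hd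
      exact ⟨.e7 (Fintype.card F), mem_cands 10 (List.mem_map.2 ⟨_, h1, rfl⟩),
        ⟨F, inferInstance, inferInstance, rfl, ⟨e⟩⟩, (Nat.card_congr e.toEquiv).trans h2⟩
    · rw [Nat.card_congr e.toEquiv] at hd
      obtain ⟨h1, h2⟩ : (0, Fintype.card F) ∈ cand l N fE8 ∧ _ :=
        one_mem hv (by norm_num) Fintype.isPrimePow_card_of_field rfl
          (by rw [S1065.result (F := F) rfl]; ring) (Nat.coprime_one_left _) hd
      exact ⟨.e8 (Fintype.card F), mem_cands 11 (List.mem_map.2 ⟨_, h1, rfl⟩),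
        ⟨F, inferInstance, inferInstance, rfl, ⟨e⟩⟩, (Nat.card_congr e.toEquiv).trans h2⟩
  · obtain ⟨F, _, _, _, q, hq, h⟩ := h
    rcases h with ⟨hF, ⟨e⟩⟩ | ⟨hF, ⟨e⟩⟩
    · rw [Nat.card_congr e.toEquiv] at hd
      have h0 := cop_add (q := q) (k := 1) le_rfl
      rw [pow_one] at h0
      obtain ⟨h1, h2⟩ : (0, q) ∈ cand l N fTE6 ∧ _ :=
        one_mem hv (by norm_num) hq rfl
          (by rw [S1066.result hq hF]; ring) (Nat.Coprime.coprime_dvd_left (Nat.gcd_dvd_right _ _) h0) hd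
      exact ⟨.te6 q, mem_cands 12 (List.mem_map.2 ⟨_, h1, rfl⟩),
        ⟨F, inferInstance, inferInstance, hF, ⟨e⟩⟩, (Nat.card_congr e.toEquiv).trans h2⟩
    · rw [Nat.card_congr e.toEquiv] at hd
      obtain ⟨h1, h2⟩ : (0, q) ∈ cand l N fTD4 ∧ _ :=
        one_mem hv (by norm_num) hq rfl (by rw [S1067.result hq hF]; ring) (Nat.coprime_one_left _) hd
      exact ⟨.td4 q, mem_cands 13 (List.mem_map.2 ⟨_, h1, rfl⟩),
        ⟨F, inferInstance, inferInstance, hF, ⟨e⟩⟩, (Nat.card_congr e.toEquiv).trans h2⟩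
  · obtain ⟨-, F, _, _, m, hm, hF, ⟨e⟩⟩ := h
    rw [Nat.card_congr e.toEquiv] at hd
    obtain ⟨h1, h2⟩ : (0, 2 ^ (2 * m + 1)) ∈ cand l N fSz ∧ _ :=
      one_mem hv (by norm_num) (Nat.prime_two.isPrimePow.pow (by omega)) (ok_two hm)
        (by rw [(S1163.result (F := F) hm hF).1]; ring) (Nat.coprime_one_left _) hd
    exact ⟨.sz (2 ^ (2 * m + 1)), mem_cands 14 (List.mem_map.2 ⟨_, h1, rfl⟩),
      ⟨F, inferInstance, inferInstance, m, hm, hF, rfl, ⟨e⟩⟩, (Nat.card_congr e.toEquiv).trans h2⟩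
  · obtain ⟨-, F, _, _, m, hm, hF, ⟨e⟩⟩ := h
    rw [Nat.card_congr e.toEquiv] at hd
    obtain ⟨h1, h2⟩ : (0, 2 ^ (2 * m + 1)) ∈ cand l N fTF4 ∧ _ :=
      one_mem hv (by norm_num) (Nat.prime_two.isPrimePow.pow (by omega)) (ok_two hm)
        (by rw [S1068.result (K := F) hF]; ring) (Nat.coprime_one_left _) hd
    exact ⟨.tf4 (2 ^ (2 * m + 1)), mem_cands 16 (List.mem_map.2 ⟨_, h1, rfl⟩),
      ⟨F, inferInstance, inferInstance, m, hm, hF, rfl, ⟨e⟩⟩, (Nat.card_congr e.toEquiv).trans h2⟩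
  · obtain ⟨-, F, _, _, m, hm, hF, ⟨e⟩⟩ := h
    rw [Nat.card_congr e.toEquiv] at hd
    obtain ⟨h1, h2⟩ : (0, 3 ^ (2 * m + 1)) ∈ cand l N fRee ∧ _ :=
      one_mem hv (by norm_num) (Nat.prime_three.isPrimePow.pow (by omega)) (ok_three hm)
        (by rw [S1069.result (K := F) hF]; ring) (Nat.coprime_one_left _) hd
    exact ⟨.ree (3 ^ (2 * m + 1)), mem_cands 15 (List.mem_map.2 ⟨_, h1, rfl⟩),
      ⟨F, inferInstance, inferInstance, m, hm, hF, rfl, ⟨e⟩⟩, (Nat.card_congr e.toEquiv).trans h2⟩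

/-- the version with a condition on the order -/
theorem exists_real_char {p : ℕ} {S : Type u} [Group S] (h : IsLieTypeChar p S)
    {l : List (ℕ × ℕ)} {N : ℕ} (hv : valid l N = true) (hd : Nat.card S ∣ N) (P : ℕ → Bool)
    (hP : P (Nat.card S) = true) : ∃ g ∈ (cands l N).filter (fun g => P (ordN g)), Real g S := by
  obtain ⟨g, h1, h2, h3⟩ := exists_good_char h hv hd
  exact ⟨g, List.mem_filter.2 ⟨h1, by rw [← h3]; exact hP⟩, h2⟩

end Cfsg.Agent.H958.TS
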