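import Cfsg.Agent.H958.TS.RgdSub
import Cfsg.Agent.H958.TS.BFour
import Cfsg.Agent.H958.TS.OrdLie
import Cfsg.Agent.H958.TS.TwCommon
import Cfsg.Agent.H944.TS.Iface

/-!
# `Ω₁₀⁻(2)` is a subgroup of `²E₆(2)` (S5741, task 980, TEAM EXCSUB, helper958)

The subgroup generated by the root groups of the subsystem `B₄` of the relative root system `F₄`.
-/

set_option autoImplicit false
set_option linter.unusedSectionVars false
set_option maxHeartbeats 400000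

namespace Cfsg.Agent.H958.TS.OmegaTen

open CoxeterSystem Cfsg.Agent.ChevalleyStructure.CoxeterGeom Cfsg.Agent.Tits.Roots Cfsg.Agent.Tits.Core
  Cfsg.Agent.Nodes.Reps Cfsg.Agent.Nodes.BNOf Cfsg.Agent.Nodes.RGDTwGen Cfsg.Agent.Nodes.RGDChev
  Cfsg.Agent.Nodes.RGDFold Cfsg.Agent.Nodes.RGDLib Cfsg.Agent.Nodes.SubComb Cfsg.Agent.Nodes.Sub
  Cfsg.Agent.Nodes.RGDFoldSL Cfsg.Agent.Nodes.RGDTwE6 Cfsg.Agent.Nodes.RGDTwTab Cfsg.Agent.Nodes.RGDTwCoordE6
  Cfsg.Agent.Nodes.RGDTwCoord Cfsg.Agent.Nodes.RGDTwComE6 Cfsg.Agent.Nodes.RGDTwActE6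
open Cfsg.Lie Cfsg.Agent.ChevalleyStructure
open Cfsg.Agent.KFacts.RgdBorelTits Cfsg.Agent.KFacts.RgdFilt
open Cfsg.Agent.KFacts.TwESix.Comb
open Cfsg.Agent.KFacts.MulOdd.Inst Cfsg.Agent.KFacts.MulOdd.Shrink
open Cfsg.Agent.Nodes.RGDTwNode.E6 (nodeOK eps_one rest)
open Cfsg.Agent.OddHalf.NI
open Cfsg.Agent.H958.TS.BFour Cfsg.Agent.H958.TS.TwCommon
open scoped commutatorElement MatrixGroups

universe u

theorem Qv_eq (z : Fin 4 → ℤ) : Qv z = bf z z := by unfold Qv Q4 bf; ring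

theorem lg_iff {z : Fin 4 → ℤ} : Lg z ↔ bf z z = 4 := by unfold Lg; rw [Qv_eq]
theorem st_iff {z : Fin 4 → ℤ} : St z ↔ bf z z = 2 := by unfold St; rw [Qv_eq]

variable {K : Type u} [Field K] [Fintype K] {q : ℕ} {φ : K →+* K} (hφ : ∀ x, φ x = x ^ q)
  (hqq : ∀ t : K, (t ^ q) ^ q = t) {W : Type*} [Group W] {cs : CoxeterSystem CoxeterMatrix.F₄ W}
  {W' : Type*} [Group W'] {cs' : CoxeterSystem MB W'}

/-- the root groups of the subsystem -/
noncomputable def X4 (φ : K →+* K) (q : ℕ) (c : Fin 4 → ℤ) : Subgroup ↥(twistedE6 K q) := X φ q (iota β c)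

/-- the subgroup generated by them -/
noncomputable def L4 (cs' : CoxeterSystem MB W') (φ : K →+* K) (q : ℕ) :
    Subgroup ↥(twistedE6 K q) := G1 cs' isCartan4 (X4 φ q)

theorem X_le {z : Fin 4 → ℤ} (hz : z ∈ rts) (he : z 3 % 2 = 0) : X φ q z ≤ L4 cs' φ q := by
  have h1 : IsRoot cs' isCartan4 (κ z) :=
    (isRoot_iff cs' (CoxeterMatrix.F₄.toCoxeterSystem) _).2 (by rw [iota_κ he]; exact hz)
  have h2 := X_le_G1 (X := X4 φ q) h1
  unfold X4 at h2
  rwa [iota_κ he] at h2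

include hφ hqq

/-- **The root group datum of the subsystem.** -/
theorem exists_rgd (p : ℕ) [Fact p.Prime] [CharP K p] (cs : CoxeterSystem CoxeterMatrix.F₄ W) :
    ∃ (w : Fin 4 → W) (g n : Fin 4 → ↥(twistedE6 K q)), SubSys cs isCartan A4 β w ii ∧
      (∀ j, Rp cs (rgd cs hφ hqq p).nsys (w j) (g j)) ∧
      RGD cs' isCartan4 p (T K q) n (X4 φ q) := by
  obtain ⟨w, S⟩ := exists_subSys cs
  have : Finite W := finiteW cs
  have R := rgd cs hφ hqq p
  have hg : ∀ j, ∃ g, Rp cs R.nsys (w j) g := fun j => exists_rp cs R.nsys (w j)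
  choose g hg using hg
  refine ⟨w, g, _, S, hg, rgd_sub (cs' := cs') (h' := isCartan4) R S
    (comm_of_int (cs' := cs') (h' := isCartan4) S ?_ (hbase cs)) hg⟩
  intro x y hx hy hxy hxy' a ha b hb
  exact intComm hφ hqq x y hx hy hxy hxy' a ha b hb

/-- **Perfectness.** -/
theorem X_le_comm {z : Fin 4 → ℤ} (hz : z ∈ rts) (he : z 3 % 2 = 0) :
    X φ q z ≤ ⁅L4 cs' φ q, L4 cs' φ q⁆ := by
  obtain ⟨p, hp'⟩ := CharP.exists K
  have : Fact p.Prime := ⟨CharP.char_is_prime K p⟩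
  let cs := CoxeterMatrix.F₄.toCoxeterSystem
  have : Finite CoxeterMatrix.F₄.Group := finiteW cs
  have R := rgd cs hφ hqq p
  have hlong : ∀ z ∈ rts, z 3 % 2 = 0 → bf z z = 4 → X φ q z ≤ ⁅L4 cs' φ q, L4 cs' φ q⁆ := by
    intro z hz he hl
    obtain ⟨r, hr, s, hs, er, es, lr, ls, hrs, rfl⟩ := long_sum z hz he hl
    have hA := a2 cs ((mem_rts cs).2 hr) ((mem_rts cs).2 hs) (by rw [lr, ls]) (by rw [hrs, lr]; norm_num)
    intro g hg
    obtain ⟨⟨u, hu⟩, hu0⟩ := Subgroup.ne_bot_iff_exists_ne_one.1 (Cfsg.Agent.Nodes.Bruhat.X_ne_bot R hA.rx)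
    have hu1 : u ≠ 1 := fun h0 => hu0 (Subtype.ext h0)
    obtain ⟨v, hv, rfl⟩ := KFacts.RgdSL.A2.comm_surj R hA hu hu1 hg
    exact Subgroup.commutator_mem_commutator (X_le hr er hu) (X_le hs es hv)
  rcases norm cs ((mem_rts cs).2 hz) with hl | hs
  · exact hlong z hz he hl
  · obtain ⟨r, hr, s, hs', er, es, lr, ls, rfl⟩ := short_sum z hz he hs
    have rr := (mem_rts cs).2 hr
    have rs := (mem_rts cs).2 hs'
    have rz := (mem_rts cs).2 hz
    intro g hg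
    obtain ⟨c, rfl⟩ := (mem_X_short hφ hqq rz (st_iff.2 hs) g).1 hg
    have hN := N_quad_ne_zero (K := K) hφ hqq rr rs rz (lg_iff.2 lr) (st_iff.2 ls)
    obtain ⟨-, h2, h3, h4⟩ := comm_quad hφ hqq rr rs rz (lg_iff.2 lr) (st_iff.2 ls) (a := 1) (map_one φ)
      (((N r s : ℤ) : K)⁻¹ * c)
    rw [one_mul, one_mul, mul_inv_cancel_left₀ hN] at h4
    have h5 : r + (2 : ℤ) • s ∈ rts := (mem_rts cs).1 h2
    have h6 : (r + (2 : ℤ) • s) 3 % 2 = 0 := by
      rw [Pi.add_apply, Pi.smul_apply, smul_eq_mul]; omega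
    have h7 := hlong _ h5 h6 (lg_iff.1 h3)
    have h8 := eq_mul_inv_of_mul_eq h4.symm
    rw [h8]
    refine mul_mem (Subgroup.commutator_mem_commutator ?_ ?_) (inv_mem (h7 ?_))
    · exact X_le hr er (x_mem hφ hqq rr (ok_one r))
    · exact X_le hs' es (x_mem hφ hqq rs (ok_short hφ hqq rs (st_iff.2 ls) _))
    · refine x_mem hφ hqq h2 (ok_long h2 h3 ?_)
      rw [map_mul, map_mul φ (((N r s : ℤ) : K)⁻¹ * c), map_intCast, phi_phi hφ hqq, mul_comm (φ _)]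

/-! ### The centre -/

omit hφ hqq in
theorem unit_eq_one (hφ : ∀ x, φ x = x ^ 2) (u : (Fx φ 1)ˣ) : u = 1 := by
  apply Units.ext
  apply Subtype.ext
  have h1 : φ ((u : Fx φ 1) : K) = ((u : Fx φ 1) : K) := mem_Fx.1 (u : Fx φ 1).2
  rw [hφ] at h1
  have h2 : ((u : Fx φ 1) : K) ≠ 0 := fun h0 => u.ne_zero (Subtype.ext h0)
  have h3 : ((u : Fx φ 1) : K) * ((u : Fx φ 1) : K) = ((u : Fx φ 1) : K) * 1 := by rw [← pow_two, h1, mul_one]
  exact mul_left_cancel₀ h2 h3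

omit hφ hqq in
theorem charP_two (hK : Fintype.card K = 4) : CharP K 2 := by
  obtain ⟨p, hp'⟩ := CharP.exists K
  have hpp : p.Prime := CharP.char_is_prime K p
  have : Fact p.Prime := ⟨hpp⟩
  obtain ⟨n, -, hn⟩ := FiniteField.card K p
  rw [hK] at hn
  have h2 : p ∣ 2 ^ 2 := by
    have : p ∣ p ^ (n : ℕ) := dvd_pow_self p n.2.ne'
    rw [← hn] at this
    exact this
  have h3 := (Nat.prime_dvd_prime_iff_eq hpp Nat.prime_two).1 (hpp.dvd_of_dvd_pow h2)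
  rwa [← h3]

omit hφ hqq in
/-- The tori of the long nodes are trivial. -/
theorem long_node (hK : Fintype.card K = 4) (hφ : ∀ x, φ x = x ^ 2) (hqq : ∀ t : K, (t ^ 2) ^ 2 = t)
    {i : Fin 4} (hi : i = 0 ∨ i = 1) : T K 2 ⊓ (X φ 2 (sr i) ⊔ X φ 2 (-sr i)) = ⊥ := by
  have := charP_two hK
  have : Fact (Nat.Prime 2) := ⟨Nat.prime_two⟩
  let cs := CoxeterMatrix.F₄.toCoxeterSystem
  have : Finite CoxeterMatrix.F₄.Group := finiteW cs
  have h1 := Mult.T_inf_KK (rgd cs hφ hqq 2) (coordP hφ hqq) i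
  unfold Mult.KK at h1
  rw [h1, eq_bot_iff]
  rintro _ ⟨u, rfl⟩
  have h2 : u = 1 := by
    rcases hi with rfl | rfl
    · exact unit_eq_one hφ u
    · exact unit_eq_one hφ u
  rw [h2, map_one]
  exact one_mem _

omit hφ hqq in
/-- The torus of `L4`. -/
theorem TT_le4 (hK : Fintype.card K = 4) (hφ : ∀ x, φ x = x ^ 2) (hqq : ∀ t : K, (t ^ 2) ^ 2 = t) :
    TT (T K 2) (X4 φ 2) ≤ T K 2 ⊓ (X φ 2 (sr 2) ⊔ X φ 2 (-sr 2)) := by
  have := charP_two hK
  have : Fact (Nat.Prime 2) := ⟨Nat.prime_two⟩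
  let cs := CoxeterMatrix.F₄.toCoxeterSystem
  have : Finite CoxeterMatrix.F₄.Group := finiteW cs
  have R := rgd cs hφ hqq 2
  obtain ⟨w, S⟩ := exists_subSys cs
  refine iSup_le fun j => ?_
  have hj : Hv (T K 2) (X4 φ 2) j = T K 2 ⊓ (X φ 2 (β j) ⊔ X φ 2 (-β j)) := by
    unfold Hv Lv X4
    rw [map_neg, iota_sr]
  rw [hj]
  fin_cases j
  · -- `-ρ`
    show T K 2 ⊓ (X φ 2 (β 0) ⊔ X φ 2 (-β 0)) ≤ _
    obtain ⟨g, hg⟩ := exists_rp cs R.nsys (w 0)
    have e1 : rep cs isCartan (w 0) (sr 0) = β 0 := (S.eq 0).symm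
    rintro t ⟨ht, ht'⟩
    have h1 : g⁻¹ * t * g ∈ T K 2 ⊓ (X φ 2 (sr 0) ⊔ X φ 2 (-sr 0)) := by
      refine Subgroup.mem_inf.2 ⟨?_, ?_⟩
      · have h2 := mem_normalizer_iff_cj.1 hg.inv.mem_normalizer
        rw [← h2, mem_cj]
        have : g⁻¹⁻¹ * (g⁻¹ * t * g) * g⁻¹ = t := by group
        rw [this]; exact ht
      · have h3 : cj g (X φ 2 (sr 0) ⊔ X φ 2 (-sr 0)) = X φ 2 (β 0) ⊔ X φ 2 (-β 0) := by
          rw [cj_sup, R.conj_rp hg (isRoot_sr cs isCartan 0), R.conj_rp hg (isRoot_sr cs isCartan 0).neg, map_neg, e1]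
        have h5 : t ∈ cj g (X φ 2 (sr 0) ⊔ X φ 2 (-sr 0)) := by rw [h3]; exact ht'
        exact mem_cj.1 h5
    rw [long_node hK hφ hqq (Or.inl rfl), Subgroup.mem_bot] at h1
    have h4 : t = 1 := by
      have : t = g * (g⁻¹ * t * g) * g⁻¹ := by group
      rw [this, h1]; group
    rw [h4]; exact one_mem _
  · show T K 2 ⊓ (X φ 2 (sr 0) ⊔ X φ 2 (-sr 0)) ≤ _
    rw [long_node hK hφ hqq (Or.inl rfl)]; exact bot_le
  · show T K 2 ⊓ (X φ 2 (sr 1) ⊔ X φ 2 (-sr 1)) ≤ _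
    rw [long_node hK hφ hqq (Or.inr rfl)]; exact bot_le
  · exact le_rfl

omit hφ hqq in
theorem cent (hK : Fintype.card K = 4) (hφ : ∀ x, φ x = x ^ 2) (hqq : ∀ t : K, (t ^ 2) ^ 2 = t)
    {t : ↥(twistedE6 K 2)} (ht : t ∈ TT (T K 2) (X4 φ 2)) (hc : ∀ u ∈ X φ 2 (sr 2), t * u = u * t) : t = 1 := by
  have := charP_two hK
  have : Fact (Nat.Prime 2) := ⟨Nat.prime_two⟩
  let cs := CoxeterMatrix.F₄.toCoxeterSystem
  have : Finite CoxeterMatrix.F₄.Group := finiteW cs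
  have h1 := Mult.T_inf_KK (rgd cs hφ hqq 2) (coordP hφ hqq) 2
  unfold Mult.KK at h1
  have h2 := TT_le4 hK hφ hqq ht
  rw [h1] at h2
  obtain ⟨u, rfl⟩ := h2
  have h3 := hc _ ((coordP hφ hqq).mem_up 2 1)
  rw [MonoidHom.comp_apply, Mult.dgHom_apply] at h3 ⊢
  have h4 : P hφ hqq 2 (Mult.dg u * Mult.up 1 * (Mult.dg u)⁻¹) = P hφ hqq 2 (Mult.up 1) := by
    rw [map_mul, map_mul, map_inv, h3, mul_inv_cancel_right]
  rw [Mult.dg_mul_up, mul_one] at h4
  have h5 := P_up_inj hφ hqq 2 h4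
  have h6 : u = 1 := by
    apply Units.ext
    have h7 : ((u : Fx φ ((rest 2).length + 1)) : K) ^ 2 = 1 := by
      have := congrArg Subtype.val h5
      simpa using this
    apply Subtype.ext
    have h8 : (((u : Fx φ ((rest 2).length + 1)) : K) - 1) ^ 2 = 0 := by
      rw [sub_pow_char_of_commute (p := 2) (Commute.all _ _), h7, one_pow, sub_self]
    exact sub_eq_zero.1 (pow_eq_zero_iff (two_ne_zero)|>.1 h8)
  rw [h6, Mult.dg_one, map_one]

/-! ### The order -/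

omit hφ hqq in
theorem card_X (hK : Fintype.card K = 4) (hφ : ∀ x, φ x = x ^ 2) (hqq : ∀ t : K, (t ^ 2) ^ 2 = t)
    {z : Fin 4 → ℤ} (hz : z ∈ rts) : Nat.card ↥(X φ 2 z) = if bf z z = 4 then 2 else 4 := by
  let cs := CoxeterMatrix.F₄.toCoxeterSystem
  have rz := (mem_rts cs).2 hz
  have e : Nat.card {a : K // Ok chevE6 J O φ z a} = Nat.card ↥(X φ 2 z) := by
    refine Nat.card_congr (Equiv.ofBijective
      (fun a : {a : K // Ok chevE6 J O φ z a} => (⟨x φ 2 z a, x_mem hφ hqq rz a.2⟩ : ↥(X φ 2 z))) ⟨?_, ?_⟩)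
    · rintro ⟨a, ha⟩ ⟨b, hb⟩ hab
      exact Subtype.ext (x_inj hφ hqq rz ha hb (congrArg Subtype.val hab))
    · rintro ⟨g, hg⟩
      obtain ⟨a, ha, rfl⟩ := (mem_X hφ hqq rz g).1 hg
      exact ⟨⟨a, ha⟩, rfl⟩
  rw [← e]
  rcases norm cs rz with hl | hs
  · rw [if_pos hl]
    have h1 : ∀ a : K, Ok chevE6 J O φ z a ↔ a ∈ ({0, 1} : Set K) := by
      intro a
      rw [ok_iff_long rz (lg_iff.2 hl), hφ, Set.mem_insert_iff, Set.mem_singleton_iff]
      constructor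
      · intro h2
        have h3 : a * (a - 1) = 0 := by rw [mul_sub, ← pow_two, h2, mul_one, sub_self]
        rcases mul_eq_zero.1 h3 with h4 | h4
        · exact Or.inl h4
        · exact Or.inr (sub_eq_zero.1 h4)
      · rintro (rfl | rfl)
        · exact zero_pow two_ne_zero
        · exact one_pow 2
    rw [Nat.card_congr (Equiv.subtypeEquivRight h1)]
    have h2 : Nat.card ↥({0, 1} : Set K) = 2 := by
      rw [Nat.card_coe_set_eq]
      exact Set.ncard_pair zero_ne_one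
    exact h2
  · rw [if_neg (by rw [hs]; norm_num)]
    have h1 : ∀ a : K, Ok chevE6 J O φ z a ↔ a ∈ (Set.univ : Set K) := fun a =>
      ⟨fun _ => trivial, fun _ => ok_short hφ hqq rz (st_iff.2 hs) a⟩
    rw [Nat.card_congr (Equiv.subtypeEquivRight h1)]
    have h2 : Nat.card ↥(Set.univ : Set K) = 4 := by
      rw [Nat.card_coe_set_eq, Set.ncard_univ, Nat.card_eq_fintype_card, hK]
    exact h2

omit hφ hqq in
theorem card_U (hK : Fintype.card K = 4) (hφ : ∀ x, φ x = x ^ 2) (hqq : ∀ t : K, (t ^ 2) ^ 2 = t)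
    {n : Fin 4 → ↥(twistedE6 K 2)} [Finite W'] (R4 : RGD cs' isCartan4 2 (T K 2) n (X4 φ 2)) :
    Nat.card ↥(RGD.Sup (X4 φ 2) (RGD.Pos cs' isCartan4)) = 2 ^ 20 := by
  rw [← coe_pos cs', Cfsg.Agent.Nodes.CardSup.card_sup R4 (by rw [coe_pos cs']) (by rw [coe_pos cs']; exact Cfsg.Agent.Nodes.Unique.closed_pos),
    ← prod_pos]
  refine Finset.prod_congr rfl fun c hc => ?_
  have h1 : c ∈ RGD.Pos cs' isCartan4 := by rw [← coe_pos cs']; exact hc
  exact card_X hK hφ hqq ((isRoot_iff cs' (CoxeterMatrix.F₄.toCoxeterSystem) c).1 h1.1)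


/-! ### The end -/

omit hφ hqq in
/-- the order of `²E₆(2)` -/
theorem card_E (K : Type u) [Field K] [Fintype K] (hK : Fintype.card K = 4) :
    Nat.card (Cfsg.Lie.twistedE6 K 2) = 76532479683774853939200 := by
  have h := Cfsg.Agent.S1066.result (K := K) (q := 2) Nat.prime_two.isPrimePow (by rw [hK]; norm_num)
  norm_num at h
  omega

/-- the condition on the order -/
def cond (n : ℕ) : Bool := n % 2 ^ 20 == 0 && (n / 2 ^ 20) % 2 == 1

omit hφ hqq in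
theorem filt : (OrdDiv.cands [(2, 36), (3, 9), (5, 2), (7, 2), (11, 1), (13, 1), (17, 1), (19, 1)]
    76532479683774853939200).filter (fun g => cond (OrdDiv.ordN g)) = [.ominus 5 2] := by decide +kernel

omit hφ hqq in
theorem valid_E : OrdDiv.valid [(2, 36), (3, 9), (5, 2), (7, 2), (11, 1), (13, 1), (17, 1), (19, 1)]
    76532479683774853939200 = true := by decide +kernel

omit hφ hqq in
/-- **`Ω₁₀⁻(2) ≤ ²E₆(2)`** (task 980). -/
theorem X {K : Type u} [Field K] [Fintype K] (hK : Fintype.card K = 4) : H944.TS.InE K (.ominus 5 2) := by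
  obtain ⟨φ, hφ, hqq⟩ := TwE6Basic.exists_frob (K := K) (q := 2) Nat.prime_two.isPrimePow (by rw [hK]; norm_num)
  have := charP_two hK
  have : Fact (Nat.Prime 2) := ⟨Nat.prime_two⟩
  let cs := CoxeterMatrix.F₄.toCoxeterSystem
  let cs' := MB.toCoxeterSystem
  have : Finite CoxeterMatrix.F₄.Group := finiteW cs
  obtain ⟨w, g, n, S, -, R4⟩ := exists_rgd (cs' := cs') hφ hqq 2 cs
  have : Finite MB.Group := S.finite cs' isCartan4
  have hlie : Cfsg.IsLieTypeChar 2 ↥(G1 cs' isCartan4 (X4 φ 2)) := by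
    refine RgdSub.isLie R4 conn T_comm ?_ ?_ (by simp)
    · intro c hc
      have h1 := (isRoot_iff cs' cs c).1 hc
      exact X_le_comm hφ hqq h1 (even_iota c)
    · intro t ht hc
      refine cent hK hφ hqq ht fun u hu => hc (sr 3) (isRoot_sr cs' isCartan4 3) u ?_
      unfold X4
      rw [iota_sr]
      exact hu
  obtain ⟨k, hk, hcard⟩ := RgdSub.card_eq R4
  rw [card_U hK hφ hqq R4] at hcard
  have hd : Nat.card ↥(G1 cs' isCartan4 (X4 φ 2)) ∣ 76532479683774853939200 := by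
    rw [← card_E K hK]
    exact Subgroup.card_subgroup_dvd_card _
  obtain ⟨g, hg, hr⟩ := exists_real_char hlie valid_E hd cond (by
    rw [hcard]
    unfold cond
    have h1 : 2 ^ 20 * k % 2 ^ 20 = 0 := Nat.mul_mod_right _ _
    have h2 : 2 ^ 20 * k / 2 ^ 20 = k := Nat.mul_div_cancel_left _ (by norm_num)
    have h3 : k % 2 = 1 := by omega
    rw [h1, h2, h3]
    rfl)
  rw [filt, List.mem_singleton] at hg
  subst hg
  exact ⟨_, hr⟩

end Cfsg.Agent.H958.TS.OmegaTen
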